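import Mathlib
import Groth.Prelude.Def_PLie

set_option autoImplicit false
set_option linter.unusedSectionVars false
set_option linter.unusedVariables false
set_option linter.unusedSimpArgs false
set_option linter.style.haveILetI false
set_option maxHeartbeats 400000

/-!
# `U = H^⊥` for `H = N(U)`, `U` ad-nilpotent, `U^⊥` a subalgebra (non-degenerate Killing form)
-/

open LieAlgebra LieModule

namespace Groth.Agent.Lib.Helper6.PLieOrth

universe u v

variable {k : Type u} [Field k] {L : Type v} [LieRing L] [LieAlgebra k L] [Module.Finite k L]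

/-- `p`-nilpotent elements are ad-nilpotent -/
lemma ad_iterate {p : ℕ} [CharP k p] (φ : PLie.PMap k p L) (x : L) (n : ℕ) :
    ad k L (φ.toFun^[n] x) = ad k L x ^ (p ^ n) := by
  induction n with
  | zero => simp
  | succ n ih =>
    rw [Function.iterate_succ_apply', φ.ad_map, ih, ← pow_mul, pow_succ]

lemma isNilpotent_ad_of_isPNilpotent {p : ℕ} [CharP k p] (φ : PLie.PMap k p L) {x : L}
    (hx : PLie.IsPNilpotent φ x) : IsNilpotent (ad k L x) := by
  obtain ⟨n, hn⟩ := hx
  refine ⟨p ^ n, ?_⟩
  rw [← ad_iterate φ x n, hn, map_zero]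

/-- Engel-type vanishing of the Killing form. -/
lemma killing_eq_zero_of_normalizer (U : LieSubalgebra k L)
    (hnil : ∀ u ∈ U, IsNilpotent (ad k L u)) {h u : L} (hh : h ∈ U.normalizer) (hu : u ∈ U) :
    killingForm k L h u = 0 := by
  haveI : LieModule.IsNilpotent ↥U L := by
    rw [LieModule.isNilpotent_iff_forall' (R := k) (L := ↥U) (M := L)]
    intro x
    have : toEnd k ↥U L x = ad k L (x : L) := by
      ext m
      rfl
    rw [this]
    exact hnil x x.2
  obtain ⟨n, hn⟩ := LieModule.IsNilpotent.nilpotent k ↥U L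
  have stab : ∀ i : ℕ, ∀ m ∈ lowerCentralSeries k ↥U L i, ⁅h, m⁆ ∈ lowerCentralSeries k ↥U L i := by
    intro i
    induction i with
    | zero => intro m _; simp
    | succ i ih =>
      intro m hm
      rw [LieModule.lowerCentralSeries_succ] at hm ⊢
      rw [← LieSubmodule.mem_toSubmodule, LieSubmodule.lieIdeal_oper_eq_linear_span'] at hm
      induction hm using Submodule.span_induction with
      | mem y hy =>
        obtain ⟨x, -, n', hn', rfl⟩ := hy
        have e : ⁅h, ⁅x, n'⁆⁆ = ⁅⁅h, (x : L)⁆, n'⁆ + ⁅x, ⁅h, n'⁆⁆ := by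
          rw [LieSubalgebra.coe_bracket_of_module, LieSubalgebra.coe_bracket_of_module,
            leibniz_lie]
        rw [e]
        have hx' : ⁅h, (x : L)⁆ ∈ U := (U.mem_normalizer_iff h).mp hh x x.2
        apply add_mem
        · exact LieSubmodule.lie_mem_lie (LieSubmodule.mem_top (⟨⁅h, (x : L)⁆, hx'⟩ : ↥U)) hn'
        · exact LieSubmodule.lie_mem_lie (LieSubmodule.mem_top x) (ih n' hn')
      | zero => rw [lie_zero]; exact zero_mem _
      | add a b _ _ ha hb => rw [lie_add]; exact add_mem ha hb
      | smul c a _ ha => rw [lie_smul]; exact SMulMemClass.smul_mem c ha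
  have step : ∀ i : ℕ, ∀ m ∈ lowerCentralSeries k ↥U L i,
      ⁅u, m⁆ ∈ lowerCentralSeries k ↥U L (i + 1) := by
    intro i m hm
    rw [LieModule.lowerCentralSeries_succ]
    exact LieSubmodule.lie_mem_lie (LieSubmodule.mem_top (⟨u, hu⟩ : ↥U)) hm
  have hpow : ∀ i : ℕ, ∀ m : L,
      ((ad k L h ∘ₗ ad k L u) ^ i) m ∈ lowerCentralSeries k ↥U L i := by
    intro i
    induction i with
    | zero => intro m; simp
    | succ i ih =>
      intro m
      rw [pow_succ', Module.End.mul_apply]
      exact stab (i + 1) _ (step i _ (ih m))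
  have hz : (ad k L h ∘ₗ ad k L u) ^ n = 0 := by
    apply LinearMap.ext
    intro m
    have := hpow n m
    rw [hn, LieSubmodule.mem_bot] at this
    rw [this, LinearMap.zero_apply]
  rw [killingForm_apply_apply]
  exact (LinearMap.isNilpotent_trace_of_isNilpotent ⟨n, hz⟩).eq_zero

/-- the main statement, with ad-nilpotency as hypothesis -/
theorem eq_orthogonal (hκ : (killingForm k L).Nondegenerate) (U H : LieSubalgebra k L)
    (hH : H = U.normalizer) (hnil : ∀ u ∈ U, IsNilpotent (ad k L u))
    (hperp : ∀ a b : L, (∀ y ∈ U, killingForm k L a y = 0) → (∀ y ∈ U, killingForm k L b y = 0) →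
      ∀ y ∈ U, killingForm k L ⁅a, b⁆ y = 0) :
    ∀ x : L, x ∈ U ↔ ∀ h ∈ H, killingForm k L h x = 0 := by
  have hsymm : ∀ a b : L, killingForm k L a b = killingForm k L b a :=
    LieModule.traceForm_comm k L L
  have hrefl : (killingForm k L).IsRefl := (LieModule.traceForm_isSymm k L L).isRefl
  have hoo := LinearMap.BilinForm.orthogonal_orthogonal hκ hrefl U.toSubmodule
  -- `H ⊆ U^⊥`
  have c1 : ∀ h ∈ H, ∀ u ∈ U, killingForm k L h u = 0 := by
    intro h hh u hu
    rw [hH] at hh
    exact killing_eq_zero_of_normalizer U hnil hh hu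
  -- `U^⊥ ⊆ H`
  have c2 : ∀ a : L, (∀ y ∈ U, killingForm k L a y = 0) → a ∈ H := by
    intro a ha
    rw [hH, U.mem_normalizer_iff]
    intro u hu
    have : ⁅a, u⁆ ∈ (killingForm k L).orthogonal ((killingForm k L).orthogonal U.toSubmodule) := by
      rw [LinearMap.BilinForm.mem_orthogonal_iff]
      intro b hb
      rw [LinearMap.BilinForm.mem_orthogonal_iff] at hb
      have hb' : ∀ y ∈ U, killingForm k L b y = 0 := by
        intro y hy
        rw [hsymm]
        exact hb y hy
      -- κ(b, [a,u]) = κ([b,a], u) = 0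
      rw [← LieModule.traceForm_apply_lie_apply]
      exact hperp b a hb' ha u hu
    rw [hoo] at this
    exact this
  intro x
  constructor
  · intro hx h hh
    exact c1 h hh x hx
  · intro hx
    have : x ∈ (killingForm k L).orthogonal ((killingForm k L).orthogonal U.toSubmodule) := by
      rw [LinearMap.BilinForm.mem_orthogonal_iff]
      intro b hb
      rw [LinearMap.BilinForm.mem_orthogonal_iff] at hb
      apply hx
      apply c2
      intro y hy
      rw [hsymm]
      exact hb y hy
    rw [hoo] at this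
    exact this

end Groth.Agent.Lib.Helper6.PLieOrth
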